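import Groth.Agent.DivDescLib.Normal
import Groth.Prelude.Def_CInt
import Mathlib.AlgebraicGeometry.Morphisms.Proper

/-!
# Effective Cartier divisors on a normal scheme are detected by proper dominant pull back
-/

set_option autoImplicit false
set_option backward.isDefEq.respectTransparency.types false
universe u

open CategoryTheory AlgebraicGeometry TopologicalSpace IsLocalRing

noncomputable section

namespace CDivPullLib

variable {S S' : Scheme.{u}} (f : S' ⟶ S)

theorem surjective_of_ker_eq_bot [IsProper f] (h : f.ker = ⊥) : Function.Surjective f := by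
  have h1 := Scheme.Hom.support_ker f
  rw [h, Scheme.IdealSheafData.support_bot, f.isClosedMap.isClosed_range.closure_eq] at h1
  exact Set.range_eq_univ.1 h1.symm

/-- The pull back of a local equation of a divisor missing a dense open is regular. -/
theorem regular_pullback (U : S.Opens) (hU' : CInt.IsSchematicallyDense (f ⁻¹ᵁ U)) (D : S.IdealSheafData)
    (hDU : (D.support : Set S) ⊆ (U : Set S)ᶜ) (W : S.affineOpens) (g : Γ(S, W.1)) (hg : D.ideal W = Ideal.span {g})
    (y : S') (hy : f y ∈ W.1) (r : S'.presheaf.stalk y)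
    (hr : r * (f.stalkMap y).hom ((S.presheaf.germ W.1 (f y) hy).hom g) = 0) : r = 0 := by
  obtain ⟨V, hyV, s, rfl⟩ := S'.presheaf.germ_exist r
  let V₁ : S'.Opens := V ⊓ f ⁻¹ᵁ W.1
  have e₁ : (f.stalkMap y).hom ((S.presheaf.germ W.1 (f y) hy).hom g) =
      S'.presheaf.germ V₁ y ⟨hyV, hy⟩ (f.appLE W.1 V₁ inf_le_right g) :=
    (RingHom.congr_fun (DivDescLib.germ_stalkMap_appLE f W.1 V₁ inf_le_right ⟨hyV, hy⟩) g).symm
  have e₂ : S'.presheaf.germ V y hyV s =
      S'.presheaf.germ V₁ y ⟨hyV, hy⟩ (S'.presheaf.map (homOfLE (inf_le_left : V₁ ≤ V)).op s) :=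
    (TopCat.Presheaf.germ_res_apply S'.presheaf _ _ _ _).symm
  rw [e₁] at hr
  rw [e₂] at hr ⊢
  erw [← map_mul] at hr
  obtain ⟨V₂, hyV₂, i, j, hz⟩ := S'.presheaf.germ_eq (U := V₁) (V := V₁) y ⟨hyV, hy⟩ ⟨hyV, hy⟩
    (S'.presheaf.map (homOfLE (inf_le_left : V₁ ≤ V)).op s * f.appLE W.1 V₁ inf_le_right g) 0
    (hr.trans (map_zero _).symm)
  rw [map_zero, map_mul] at hz
  have hunit : IsUnit (S'.presheaf.map (homOfLE (inf_le_left : V₂ ⊓ f ⁻¹ᵁ U ≤ V₂)).op
      (S'.presheaf.map i.op (f.appLE W.1 V₁ inf_le_right g))) := by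
    refine S'.toRingedSpace.isUnit_of_isUnit_germ _ _ fun z hzm => ?_
    obtain ⟨hz2, hzU⟩ := hzm
    have hz1 : z ∈ V₁ := i.le hz2
    have hne : f z ∉ D.support := fun hc => hDU hc hzU
    rw [SDivLib.mem_support_iff_stalk, not_not, SDivLib.stalkIdeal_eq D W hz1.2, hg, Ideal.map_span,
      Set.image_singleton, Ideal.span_singleton_eq_top] at hne
    have h1 := hne.map (f.stalkMap z).hom
    rw [← RingHom.comp_apply, ← DivDescLib.germ_stalkMap_appLE f W.1 V₁ inf_le_right hz1] at h1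
    erw [TopCat.Presheaf.germ_res_apply, TopCat.Presheaf.germ_res_apply]
    exact h1
  have h0 := congrArg (S'.presheaf.map (homOfLE (inf_le_left : V₂ ⊓ f ⁻¹ᵁ U ≤ V₂)).op) hz
  rw [map_mul, map_zero, hunit.mul_left_eq_zero] at h0
  have h3 := hU' V₂ (h0.trans (map_zero _).symm)
  rw [← TopCat.Presheaf.germ_res_apply S'.presheaf i y hyV₂, h3, map_zero]

theorem le_of_comap_eq [IsLocallyNoetherian S]
    (hnorm : ∀ x : S, IsDomain (S.presheaf.stalk x) ∧ IsIntegrallyClosed (S.presheaf.stalk x))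
    [IsProper f] (hdom : f.ker = ⊥) (U : S.Opens) (hU' : CInt.IsSchematicallyDense (f ⁻¹ᵁ U))
    (D E : S.IdealSheafData) (hD : BlowUp.IsEffCartierIdeal D) (hE : BlowUp.IsEffCartierIdeal E)
    (hDU : (D.support : Set S) ⊆ (U : Set S)ᶜ) (h : D.comap f = E.comap f) : D ≤ E := by
  refine SDivLib.le_of_stalk fun x => ?_
  obtain ⟨WD, hxD, g₀, -, hg₀⟩ := hD x
  obtain ⟨WE, hxE, h₀, -, hh₀⟩ := hE x
  obtain ⟨W₀, hW₀, hxW, hle⟩ := exists_isAffineOpen_mem_and_subset (x := x) (U := WD.1 ⊓ WE.1) ⟨hxD, hxE⟩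
  let W : S.affineOpens := ⟨W₀, hW₀⟩
  have hWD : W ≤ WD := fun z hz => (hle hz).1
  have hWE : W ≤ WE := fun z hz => (hle hz).2
  let g := S.presheaf.map (homOfLE hWD).op g₀
  let e := S.presheaf.map (homOfLE hWE).op h₀
  have hg : D.ideal W = Ideal.span {g} := by
    rw [← D.map_ideal hWD, hg₀, Ideal.map_span, Set.image_singleton]
  have he : E.ideal W = Ideal.span {e} := by
    rw [← E.map_ideal hWE, hh₀, Ideal.map_span, Set.image_singleton]
  rw [SDivLib.stalkIdeal_eq D W hxW, SDivLib.stalkIdeal_eq E W hxW, hg, Ideal.map_span, Set.image_singleton,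
    Ideal.span_singleton_le_iff_mem]
  by_contra hne
  obtain ⟨x', hx', -, hne', w, hw, hmw⟩ := DivDescLib.exists_assPoint W (E.ideal W) hxW g hne
  rw [he, Ideal.map_span, Set.image_singleton] at hne' hw hmw
  let A := S.presheaf.stalk x'
  haveI : IsDomain A := (hnorm x').1
  haveI : IsIntegrallyClosed A := (hnorm x').2
  let G : A := (S.presheaf.germ W.1 x' hx').hom g
  let H : A := (S.presheaf.germ W.1 x' hx').hom e
  have hnz : ∀ {J : S.IdealSheafData} {a : Γ(S, W.1)}, BlowUp.IsEffCartierIdeal J → J.ideal W = Ideal.span {a} →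
      (S.presheaf.germ W.1 x' hx').hom a ≠ 0 := by
    intro J a hJ ha h0
    obtain ⟨t, ht, hJt⟩ := DivDescLib.exists_gen hJ x'
    rw [SDivLib.stalkIdeal_eq J W hx', ha, Ideal.map_span, Set.image_singleton, h0] at hJt
    have h2 : t ∈ Ideal.span ({0} : Set A) := hJt.ge (Ideal.mem_span_singleton_self t)
    rw [Ideal.span_singleton_zero, Submodule.mem_bot] at h2
    exact nonZeroDivisors.ne_zero ht h2
  have hG0 : G ≠ 0 := hnz hD hg
  have hH0 : H ≠ 0 := hnz hE he
  have hd : LocCoh.depth A A ≤ 1 :=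
    DivDescLib.depth_le_one (RingHom.id A) (RingHom.Flat.id A) (mem_nonZeroDivisors_of_ne_zero hH0) hw hmw
  obtain ⟨p, hp⟩ := DivDescLib.isPrincipal_of_depth_le_one hd
  obtain ⟨a, u, hu, hGe⟩ := DivDescLib.exists_pow hp hG0
  obtain ⟨b, v, hv, hHe⟩ := DivDescLib.exists_pow hp hH0
  have hab : a < b := by
    by_contra hc
    refine hne' (Ideal.mem_span_singleton.2 ?_)
    show H ∣ G
    rw [hHe, hGe, hv.mul_left_dvd, hu.dvd_mul_left]
    exact pow_dvd_pow p (Nat.le_of_not_lt hc)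
  obtain ⟨c, hc, hHG⟩ : ∃ c ∈ maximalIdeal A, H = c * G := by
    obtain ⟨u', hu'⟩ := hu.exists_left_inv
    refine ⟨v * u' * p ^ (b - a), ?_, ?_⟩
    · refine Ideal.mul_mem_left _ _ (Ideal.pow_mem_of_mem _ ?_ _ (by omega))
      rw [hp]
      exact Ideal.mem_span_singleton_self p
    · rw [hHe, hGe]
      calc v * p ^ b = v * (u' * u) * (p ^ (b - a) * p ^ a) := by
            rw [hu', mul_one, ← pow_add, Nat.sub_add_cancel hab.le]
        _ = _ := by ring
  obtain ⟨y, rfl⟩ := surjective_of_ker_eq_bot f hdom x'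
  have hs := congrArg (fun I => IntMult.stalkIdeal I y) h
  simp only [DivDescLib.stalkIdeal_comap, SDivLib.stalkIdeal_eq D W hx', SDivLib.stalkIdeal_eq E W hx', hg, he,
    Ideal.map_span, Set.image_singleton] at hs
  obtain ⟨d, hd'⟩ := Ideal.mem_span_singleton'.1 (hs.le (Ideal.mem_span_singleton_self _))
  let φ := (f.stalkMap y).hom
  change d * φ H = φ G at hd'
  rw [hHG, map_mul] at hd'
  have hz : (1 - d * φ c) * φ G = 0 := by linear_combination -hd'
  have h1 := regular_pullback f U hU' D hDU W g hg y hx' _ hz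
  exact (mem_maximalIdeal c).1 hc (isUnit_of_map_unit φ c (IsUnit.of_mul_eq_one d (by rw [mul_comm]; exact (sub_eq_zero.1 h1).symm)))

end CDivPullLib
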